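import Mathlib

/-!
# Affineness over a local scheme spreads to a neighbourhood
-/

universe u

open CategoryTheory Limits AlgebraicGeometry TopologicalSpace

namespace Groth.Agent.IntImage

theorem flat_fromSpecStalk {S : Scheme.{u}} (p : S) : Flat (S.fromSpecStalk p) := by
  obtain ⟨_, ⟨U, hU, rfl⟩, hpU, -⟩ :=
    S.isBasis_affineOpens.exists_subset_of_mem_open (Set.mem_univ p) isOpen_univ
  rw [← hU.fromSpecStalk_eq_fromSpecStalk hpU, IsAffineOpen.fromSpecStalk]
  have : Flat (Spec.map (S.presheaf.germ U p hpU)) := by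
    rw [HasRingHomProperty.Spec_iff (P := @Flat)]
    algebraize [(S.presheaf.germ U p hpU).hom]
    exact @IsLocalization.flat Γ(S, U) (S.presheaf.stalk p) _ _ _
      (hU.primeIdealOf ⟨p, hpU⟩).asIdeal.primeCompl (hU.isLocalization_stalk ⟨p, hpU⟩)
  infer_instance

/-- If a compact open `O` meets the points lying over generalizations of `p` inside `U` only,
then it does so over a basic open neighbourhood of `p`. -/
theorem exists_basicOpen_le {Z S : Scheme.{u}} [IsAffine S] (q : Z ⟶ S) (p : S) (O U : Z.Opens)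
    (hO : IsCompact (O : Set Z)) (h : ∀ z ∈ O, q z ⤳ p → z ∈ U) :
    ∃ g : Γ(S, ⊤), p ∈ S.basicOpen g ∧ O ⊓ q ⁻¹ᵁ S.basicOpen g ≤ U := by
  classical
  obtain ⟨I, hI, hOI⟩ := isCompact_iff_finite_and_eq_biUnion_affineOpens.mp hO
  have key : ∀ V : Z.affineOpens, V.1 ≤ O →
      ∃ g : Γ(S, ⊤), p ∈ S.basicOpen g ∧ V.1 ⊓ q ⁻¹ᵁ S.basicOpen g ≤ U := by
    rintro ⟨V, hV⟩ hVO
    let φ : Γ(S, ⊤) →+* Γ(Z, V) := (q.appLE ⊤ V le_top).hom
    have hbo : ∀ g, V ⊓ q ⁻¹ᵁ S.basicOpen g = Z.basicOpen (φ g) := fun g => by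
      rw [Scheme.preimage_basicOpen]
      simp only [φ, Scheme.Hom.appLE, CommRingCat.hom_comp, RingHom.comp_apply]
      exact (Scheme.basicOpen_res _ _ _).symm
    let M : Submonoid Γ(S, ⊤) :=
      { carrier := {g | p ∈ S.basicOpen g}
        mul_mem' := fun {a b} ha hb => by
          show p ∈ S.basicOpen (a * b)
          rw [Scheme.basicOpen_mul]; exact ⟨ha, hb⟩
        one_mem' := by
          show p ∈ S.basicOpen 1
          rw [Scheme.basicOpen_of_isUnit _ isUnit_one]; trivial }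
    obtain ⟨J, hJ⟩ : ∃ J : Ideal Γ(Z, V), PrimeSpectrum.zeroLocus (J : Set Γ(Z, V)) =
        ((hV.fromSpec ⁻¹ᵁ U : (Spec Γ(Z, V)).Opens) : Set (Spec Γ(Z, V)))ᶜ := by
      obtain ⟨J, hJ⟩ := (PrimeSpectrum.isClosed_iff_zeroLocus_ideal _).mp
        (hV.fromSpec ⁻¹ᵁ U).2.isClosed_compl
      exact ⟨J, hJ.symm⟩
    by_cases hd : ∃ g ∈ M, φ g ∈ J
    · obtain ⟨g, hg, hgJ⟩ := hd
      refine ⟨g, hg, fun z hz => ?_⟩
      have hz' : z ∈ Z.basicOpen (φ g) := hbo g ▸ hz
      obtain ⟨w, rfl⟩ : z ∈ Set.range hV.fromSpec := by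
        rw [hV.range_fromSpec]; exact hz.1
      have hw : w ∈ hV.fromSpec ⁻¹ᵁ Z.basicOpen (φ g) := hz'
      rw [hV.fromSpec_preimage_basicOpen] at hw
      by_contra hU
      have : w ∈ PrimeSpectrum.zeroLocus (J : Set Γ(Z, V)) := by
        rw [hJ]; exact hU
      exact hw (this hgJ)
    · push_neg at hd
      exfalso
      have hdis : Disjoint (J : Set Γ(Z, V)) ((M.map φ : Submonoid Γ(Z, V)) : Set Γ(Z, V)) := by
        rw [Set.disjoint_left]
        rintro _ hx ⟨g, hg, rfl⟩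
        exact hd g hg hx
      obtain ⟨P, hP, hJP, hPM⟩ := Ideal.exists_le_prime_disjoint J _ hdis
      let w : Spec Γ(Z, V) := (⟨P, hP⟩ : PrimeSpectrum Γ(Z, V))
      have hwV : hV.fromSpec w ∈ V := by
        have := Set.mem_range_self (f := hV.fromSpec) w
        rwa [hV.range_fromSpec] at this
      have hw : hV.fromSpec w ∈ U := by
        refine h _ (hVO hwV) ?_
        rw [specializes_iff_forall_open]
        intro W hW hpW
        obtain ⟨g, hgW, hpg⟩ := (isAffineOpen_top S).exists_basicOpen_le (V := ⟨W, hW⟩)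
          ⟨p, hpW⟩ trivial
        apply hgW
        have : w ∈ hV.fromSpec ⁻¹ᵁ Z.basicOpen (φ g) := by
          rw [hV.fromSpec_preimage_basicOpen]
          exact fun hmem => Set.disjoint_left.mp hPM hmem ⟨g, hpg, rfl⟩
        have h2 : hV.fromSpec w ∈ Z.basicOpen (φ g) := this
        rw [← hbo] at h2
        exact h2.2
      have hw2 : w ∈ PrimeSpectrum.zeroLocus (J : Set Γ(Z, V)) := hJP
      rw [hJ] at hw2
      exact hw2 hw
  choose g hpg hg using key
  have := hI.fintype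
  refine ⟨∏ V : I, g V.1 (hOI.ge.trans' (le_iSup₂_of_le V.1 V.2 le_rfl)), ?_, ?_⟩
  · have : ∀ s : Finset I, p ∈ S.basicOpen
        (∏ V ∈ s, g V.1 (hOI.ge.trans' (le_iSup₂_of_le V.1 V.2 le_rfl))) := by
      intro s
      induction s using Finset.induction_on with
      | empty => rw [Finset.prod_empty, Scheme.basicOpen_of_isUnit _ isUnit_one]; trivial
      | insert a s ha ih =>
        rw [Finset.prod_insert ha, Scheme.basicOpen_mul]; exact ⟨hpg _ _, ih⟩
    exact this _
  · rintro z ⟨hzO, hzg⟩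
    rw [hOI] at hzO
    simp only [Opens.coe_iSup, Set.mem_iUnion, SetLike.mem_coe] at hzO
    obtain ⟨V, hVI, hzV⟩ := hzO
    refine hg V (hOI.ge.trans' (le_iSup₂_of_le V hVI le_rfl)) ⟨hzV, ?_⟩
    rw [← Finset.mul_prod_erase _ _ (Finset.mem_univ (⟨V, hVI⟩ : I))] at hzg
    exact Scheme.Hom.preimage_mono q (Scheme.basicOpen_mul S _ _ ▸ inf_le_left) hzg

set_option backward.isDefEq.respectTransparency false in
/-- A qcqs scheme over an affine scheme which is affine over the local scheme at `p` is affine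
over a basic open neighbourhood of `p`. -/
theorem exists_isAffineOpen_preimage {Z S : Scheme.{u}} [IsAffine S] (q : Z ⟶ S) [QuasiCompact q]
    [QuasiSeparated q] (p : S) [IsAffine (pullback q (S.fromSpecStalk p))] :
    ∃ g : Γ(S, ⊤), p ∈ S.basicOpen g ∧ IsAffineOpen (q ⁻¹ᵁ S.basicOpen g) := by
  classical
  have : CompactSpace Z := (quasiCompact_iff_compactSpace q).mp inferInstance
  have : Flat (S.fromSpecStalk p) := flat_fromSpecStalk p
  have : QuasiSeparatedSpace Z := (quasiSeparated_iff_quasiSeparatedSpace q).mp inferInstance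
  set Z' := pullback q (S.fromSpecStalk p)
  let pr : Z' ⟶ Z := pullback.fst _ _
  -- sections on `Z'` are a localization of the sections on `Z`
  let : Algebra Γ(S, ⊤) Γ(Z, ⊤) := q.appTop.hom.toAlgebra
  let : Algebra Γ(S, ⊤) (S.presheaf.stalk p) := (S.presheaf.germ ⊤ p trivial).hom.toAlgebra
  let σ : S.presheaf.stalk p ⟶ Γ(Z', ⊤) := (Scheme.ΓSpecIso _).inv ≫
    (pullback.snd q (S.fromSpecStalk p)).appTop
  let : Algebra (S.presheaf.stalk p) Γ(Z', ⊤) := σ.hom.toAlgebra
  let : Algebra Γ(Z, ⊤) Γ(Z', ⊤) := pr.appTop.hom.toAlgebra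
  let : Algebra Γ(S, ⊤) Γ(Z', ⊤) := (q.appTop ≫ pr.appTop).hom.toAlgebra
  have : IsScalarTower Γ(S, ⊤) Γ(Z, ⊤) Γ(Z', ⊤) := .of_algebraMap_eq' rfl
  have hw : q.appTop ≫ pr.appTop = S.presheaf.germ ⊤ p trivial ≫ σ := by
    rw [← Scheme.Hom.comp_appTop, pullback.condition, Scheme.Hom.comp_appTop,
      Scheme.fromSpecStalk_appTop]
    simp [σ]
  have : IsScalarTower Γ(S, ⊤) (S.presheaf.stalk p) Γ(Z', ⊤) :=
    .of_algebraMap_eq' (congrArg CommRingCat.Hom.hom hw)
  have H : IsPullback pr (pullback.snd _ _) q (S.fromSpecStalk p) := .of_hasPullback _ _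
  have hpo := (isIso_pushoutSection_iff (US := ⊤) (UT := ⊤) (UX := ⊤) (UY := ⊤) H (by simp) (by simp)
      (by simp)).mp
    (isIso_pushoutSection_of_isQuasiSeparated_of_flat_right H _ _ _ (isAffineOpen_top _)
      (isAffineOpen_top _) isCompact_univ isQuasiSeparated_univ)
  have hpo' : IsPushout q.appTop (S.fromSpecStalk p).appTop pr.appTop
      (pullback.snd q (S.fromSpecStalk p)).appTop := by
    simpa [Scheme.Hom.appLE, Scheme.Hom.appTop] using hpo
  have hpo'' : IsPushout q.appTop (S.presheaf.germ ⊤ p trivial) pr.appTop σ :=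
    hpo'.of_iso (Iso.refl _) (Iso.refl _) (Scheme.ΓSpecIso _) (Iso.refl _) (by simp)
      (by simp [Scheme.fromSpecStalk_appTop]) (by simp) (by simp [σ])
  have hP : Algebra.IsPushout Γ(S, ⊤) Γ(Z, ⊤) (S.presheaf.stalk p) Γ(Z', ⊤) :=
    (CommRingCat.isPushout_iff_isPushout).mp hpo''
  have : IsLocalization.AtPrime (S.presheaf.stalk p)
      ((isAffineOpen_top S).primeIdealOf ⟨p, trivial⟩).asIdeal :=
    (isAffineOpen_top S).isLocalization_stalk ⟨p, trivial⟩
  set M := ((isAffineOpen_top S).primeIdealOf ⟨p, trivial⟩).asIdeal.primeCompl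
  have hM : ∀ g, g ∈ M → p ∈ S.basicOpen g := fun g hg => by
    rw [S.mem_basicOpen g p trivial]
    exact IsLocalization.map_units (S.presheaf.stalk p) (⟨g, hg⟩ : M)
  have : IsLocalization (Algebra.algebraMapSubmonoid Γ(Z, ⊤) M) Γ(Z', ⊤) :=
    (Algebra.isLocalization_iff_isPushout M (S.presheaf.stalk p)).mpr hP
  -- choose global sections
  have hex : ∀ z' : Z', ∃ (a : Γ(Z, ⊤)) (U : Z.Opens), IsAffineOpen U ∧
      z' ∈ pr ⁻¹ᵁ Z.basicOpen a ∧ pr ⁻¹ᵁ Z.basicOpen a ≤ pr ⁻¹ᵁ U := by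
    intro z'
    obtain ⟨_, ⟨U, hU, rfl⟩, hzU, -⟩ :=
      Z.isBasis_affineOpens.exists_subset_of_mem_open (Set.mem_univ (pr z')) isOpen_univ
    obtain ⟨a', ha', hz'⟩ :=
      (isAffineOpen_top Z').exists_basicOpen_le (V := pr ⁻¹ᵁ U) ⟨z', hzU⟩ trivial
    obtain ⟨⟨a, s⟩, hs⟩ := IsLocalization.surj (Algebra.algebraMapSubmonoid Γ(Z, ⊤) M) a'
    have hu := IsLocalization.map_units Γ(Z', ⊤) s
    have heq : pr ⁻¹ᵁ Z.basicOpen a = Z'.basicOpen a' := by
      rw [Scheme.preimage_basicOpen_top]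
      show Z'.basicOpen (algebraMap Γ(Z, ⊤) Γ(Z', ⊤) a) = _
      rw [← hs, Scheme.basicOpen_mul, Scheme.basicOpen_of_isUnit _ hu]
      simp
    exact ⟨a, U, hU, heq ▸ hz', heq ▸ ha'⟩
  choose a U hU hz hle using hex
  have hspan : Ideal.span (Set.range fun z' => algebraMap Γ(Z, ⊤) Γ(Z', ⊤) (a z')) = ⊤ := by
    rw [← (isAffineOpen_top Z').iSup_basicOpen_eq_self_iff]
    refine top_le_iff.mp fun z' _ => Opens.mem_iSup.mpr
      ⟨⟨_, z', rfl⟩, ?_⟩
    have := hz z'
    rwa [Scheme.preimage_basicOpen_top] at this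
  rw [Set.range_comp', ← Ideal.map_span,
    ← not_ne_iff, IsLocalization.map_algebraMap_ne_top_iff_disjoint
      (Algebra.algebraMapSubmonoid Γ(Z, ⊤) M)] at hspan
  obtain ⟨b, hbM, hb⟩ := Set.not_disjoint_iff.mp hspan
  obtain ⟨t, ht, rfl⟩ := hbM
  obtain ⟨s, hs, hts⟩ := Submodule.mem_span_finite_of_mem_span hb
  choose k hk using fun c : s => hs c.2
  have hgen : ∀ c : s, ∀ z ∈ Z.basicOpen c.1, q z ⤳ p → z ∈ U (k c) := by
    intro c z hzc hzp
    have hzr : z ∈ Set.range pr := by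
      rw [Scheme.Pullback.range_fst, Set.mem_preimage, Scheme.range_fromSpecStalk]
      exact hzp
    obtain ⟨z', rfl⟩ := hzr
    exact hle (k c) (show z' ∈ pr ⁻¹ᵁ Z.basicOpen (a (k c)) by rw [hk c]; exact hzc)
  choose g hpg hg using fun c : s => exists_basicOpen_le q p (Z.basicOpen c.1) (U (k c))
    (isCompact_basicOpen _ isCompact_univ _) (hgen c)
  refine ⟨t * ∏ c : s, g c, ?_, ?_⟩
  · rw [Scheme.basicOpen_mul]
    refine ⟨hM t ht, ?_⟩
    have : ∀ F : Finset s, p ∈ S.basicOpen (∏ c ∈ F, g c) := by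
      intro F
      induction F using Finset.induction_on with
      | empty => rw [Finset.prod_empty, Scheme.basicOpen_of_isUnit _ isUnit_one]; trivial
      | insert x F hx ih => rw [Finset.prod_insert hx, Scheme.basicOpen_mul]; exact ⟨hpg _, ih⟩
    exact this _
  set G := t * ∏ c : s, g c
  rw [Scheme.preimage_basicOpen_top]
  set w := q.appTop G
  set W := Z.basicOpen w
  let res : Γ(Z, ⊤) →+* Γ(Z, W) := (Z.presheaf.map (homOfLE (le_top : W ≤ ⊤)).op).hom
  refine isAffineOpen_of_isAffineOpen_basicOpen W (Set.range fun c : s => res c.1) ?_ ?_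
  · have hw : res (q.appTop t) ∈ Ideal.map res (Ideal.span (s : Set Γ(Z, ⊤))) :=
      Ideal.mem_map_of_mem _ hts
    rw [Ideal.map_span] at hw
    have hu : IsUnit (res (q.appTop t)) := by
      have : IsUnit (res w) := RingedSpace.isUnit_res_basicOpen Z.toRingedSpace w
      simp only [w, G, map_mul] at this
      exact isUnit_of_mul_isUnit_left this
    convert Ideal.eq_top_of_isUnit_mem _ hw hu using 2
    ext; simp [Set.mem_image]
  · rintro _ ⟨c, rfl⟩
    have h1 : Z.basicOpen (res c.1) = W ⊓ Z.basicOpen c.1 := Scheme.basicOpen_res _ _ _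
    have h2 : W ⊓ Z.basicOpen c.1 ≤ U (k c) := by
      refine le_trans ?_ (hg c)
      rw [inf_comm]
      refine inf_le_inf_left _ ?_
      show Z.basicOpen w ≤ _
      rw [Scheme.preimage_basicOpen_top]
      simp only [w, G, map_mul, Scheme.basicOpen_mul]
      refine inf_le_right.trans ?_
      rw [← Finset.mul_prod_erase _ _ (Finset.mem_univ c), map_mul, Scheme.basicOpen_mul]
      exact inf_le_left
    have h3 : W ⊓ Z.basicOpen c.1 = Z.basicOpen ((Z.presheaf.map (homOfLE le_top).op (w * c.1)) :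
        Γ(Z, U (k c))) := by
      rw [Scheme.basicOpen_res, Scheme.basicOpen_mul]
      exact (inf_eq_right.mpr h2).symm
    rw [h1, h3]
    exact (hU _).basicOpen _


/-- A qcqs morphism which is affine over every local scheme of the base is affine. -/
theorem isAffineHom_of_local {Z S : Scheme.{u}} (q : Z ⟶ S) [QuasiCompact q] [QuasiSeparated q]
    (hloc : ∀ p : S, IsAffineHom (pullback.snd q (S.fromSpecStalk p))) : IsAffineHom q := by
  refine isAffineHom_of_forall_exists_isAffineOpen q fun p => ?_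
  obtain ⟨_, ⟨U : S.Opens, hU, rfl⟩, hpU, -⟩ :=
    S.isBasis_affineOpens.exists_subset_of_mem_open (Set.mem_univ p) isOpen_univ
  have : IsAffine U := hU
  have := hloc p
  have : IsAffine (pullback q (S.fromSpecStalk p)) :=
    isAffine_of_isAffineHom (pullback.snd q (S.fromSpecStalk p))
  have : IsAffine (pullback (q ∣_ U) (U.toScheme.fromSpecStalk ⟨p, hpU⟩)) := by
    have e : U.toScheme.fromSpecStalk ⟨p, hpU⟩ ≫ U.ι =
        Spec.map (U.ι.stalkMap ⟨p, hpU⟩) ≫ S.fromSpecStalk p :=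
      (Scheme.SpecMap_stalkMap_fromSpecStalk U.ι).symm
    have h1 := (IsPullback.of_hasPullback (q ∣_ U) (U.toScheme.fromSpecStalk ⟨p, hpU⟩)).flip.paste_vert
      (isPullback_morphismRestrict q U)
    rw [e] at h1
    let i := Spec.map (U.ι.stalkMap ⟨p, hpU⟩)
    let l := pullback.lift (f := q) (g := S.fromSpecStalk p) _ (_ ≫ i)
      (h1.flip.w.trans (Category.assoc _ _ _).symm)
    have h2 : IsPullback l (pullback.snd (q ∣_ U) _) (pullback.snd q (S.fromSpecStalk p)) i :=
      IsPullback.of_right (by rw [pullback.lift_fst]; exact h1.flip) (pullback.lift_snd _ _ _)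
        (IsPullback.of_hasPullback q (S.fromSpecStalk p))
    have hi : IsIso i := inferInstanceAs (IsIso (Spec.map (U.ι.stalkMap ⟨p, hpU⟩)))
    have : IsIso l := h2.isIso_fst_of_isIso hi
    exact IsAffine.of_isIso l
  obtain ⟨g, hpg, hg⟩ := exists_isAffineOpen_preimage (q ∣_ U) (⟨p, hpU⟩ : U)
  refine ⟨U.ι ''ᵁ U.toScheme.basicOpen g, ⟨_, hpg, rfl⟩, ?_, ?_⟩
  · exact ((isAffineOpen_top U.toScheme).basicOpen g).image_of_isOpenImmersion U.ι
  · rw [← image_morphismRestrict_preimage]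
    exact hg.image_of_isOpenImmersion _


end Groth.Agent.IntImage
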