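import Mathlib
import Groth.Agent.Hensel.Idempotent
import Groth.Agent.Hensel.Basic

/-!
# Images of integral schemes over a henselian local ring
-/

universe u

open CategoryTheory Limits AlgebraicGeometry TopologicalSpace

namespace Groth.Agent.IntImage

/-- Over a henselian local ring, in an integral algebra with finitely many maximal ideals, every
maximal ideal has a basic clopen neighbourhood containing no other maximal ideal. -/
theorem exists_isClopen_separating {H : Type*} [CommRing H] [HenselianLocalRing H] {B : Type*}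
    [CommRing B] [Algebra H B] [Algebra.IsIntegral H B]
    (hfin : Set.Finite {P : PrimeSpectrum B | P.asIdeal.IsMaximal})
    (x : PrimeSpectrum B) (hx : x.asIdeal.IsMaximal) :
    ∃ C : Set (PrimeSpectrum B), IsClopen C ∧ x ∈ C ∧
      ∀ y : PrimeSpectrum B, y.asIdeal.IsMaximal → y ∈ C → y = x := by
  set m := IsLocalRing.maximalIdeal H
  set J := m.map (algebraMap H B)
  have hJ : ∀ P : PrimeSpectrum B, J ≤ P.asIdeal ↔ P.asIdeal.IsMaximal := by
    intro P
    rw [Ideal.map_le_iff_le_comap]
    constructor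
    · intro h
      have : (P.asIdeal.comap (algebraMap H B)).IsMaximal := by
        rw [← (IsLocalRing.maximalIdeal.isMaximal H).eq_of_le
          (Ideal.IsPrime.comap _).ne_top h]
        exact IsLocalRing.maximalIdeal.isMaximal H
      exact Ideal.isMaximal_of_isIntegral_of_isMaximal_comap P.asIdeal this
    · intro h
      have := Ideal.isMaximal_comap_of_isIntegral_of_isMaximal (R := H) P.asIdeal
      exact (IsLocalRing.eq_maximalIdeal this).ge
  let c := PrimeSpectrum.comap (Ideal.Quotient.mk J)
  have hc : ∀ w, (c w).asIdeal.IsMaximal := fun w => (hJ _).mp fun a ha => by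
    show Ideal.Quotient.mk J a ∈ w.asIdeal
    rw [Ideal.Quotient.eq_zero_iff_mem.mpr ha]
    exact zero_mem _
  have hci : Function.Injective c :=
    PrimeSpectrum.comap_injective_of_surjective _ Ideal.Quotient.mk_surjective
  have : Finite (PrimeSpectrum (B ⧸ J)) := by
    have := hfin.to_subtype
    exact Finite.of_injective (fun w => (⟨c w, hc w⟩ : {P : PrimeSpectrum B | P.asIdeal.IsMaximal}))
      fun a b h => hci (congrArg Subtype.val h)
  have hcr : ∀ P : PrimeSpectrum B, P.asIdeal.IsMaximal → ∃ w, c w = P := by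
    intro P hP
    have h : P ∈ Set.range c := by
      rw [range_comap_of_surjective _ (f := Ideal.Quotient.mk J) Ideal.Quotient.mk_surjective]
      simpa [Ideal.mk_ker] using! (hJ P).mpr hP
    exact h
  have hT1 : ∀ w : PrimeSpectrum (B ⧸ J), IsClosed ({w} : Set _) := fun w => by
    rw [PrimeSpectrum.isClosed_singleton_iff_isMaximal]
    have := hc w
    exact (Ideal.map_comap_of_surjective _ Ideal.Quotient.mk_surjective w.asIdeal) ▸
      ((Ideal.map_eq_top_or_isMaximal_of_surjective _ Ideal.Quotient.mk_surjective this).resolve_left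
        (by
          erw [Ideal.map_comap_of_surjective _ Ideal.Quotient.mk_surjective]
          exact w.isPrime.ne_top))
  have : T1Space (PrimeSpectrum (B ⧸ J)) := ⟨hT1⟩
  obtain ⟨w, rfl⟩ := hcr x hx
  obtain ⟨e₀, he₀, hs⟩ := PrimeSpectrum.isClopen_iff.1 (isClopen_discrete ({w} : Set _))
  obtain ⟨e, he, rfl⟩ := Hensel.surjOn_idempotent (I := m) B he₀
  refine ⟨PrimeSpectrum.basicOpen e, PrimeSpectrum.isClopen_iff.2 ⟨e, he, rfl⟩, ?_, ?_⟩
  · have : w ∈ PrimeSpectrum.basicOpen (Ideal.Quotient.mk J e) := hs.le rfl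
    exact this
  · intro y hy hye
    obtain ⟨v, rfl⟩ := hcr y hy
    have : v ∈ ({w} : Set (PrimeSpectrum (B ⧸ J))) := hs.ge hye
    rw [this]

theorem isClosed_singleton_iff_Spec {B : CommRingCat} (x : Spec B) :
    IsClosed ({x} : Set (Spec B)) ↔ (x : PrimeSpectrum B).asIdeal.IsMaximal :=
  PrimeSpectrum.isClosed_singleton_iff_isMaximal x

/-- The scheme-theoretic core: the image of an affine scheme, integral over a henselian local ring
and with finite closed fibre, under a closed surjection to a separated scheme is affine. -/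
theorem isAffine_of_henselian {H : CommRingCat.{u}} [HenselianLocalRing H] {X Z : Scheme.{u}}
    (h : X ⟶ Z) [Surjective h] (hcl : IsClosedMap h) (q : Z ⟶ Spec H) [IsIntegralHom (h ≫ q)]
    (hfin : Set.Finite ((h ≫ q) ⁻¹' {IsLocalRing.closedPoint H})) : IsAffine Z := by
  classical
  have : IsAffine X := isAffine_of_isAffineHom (h ≫ q)
  let B : CommRingCat := Γ(X, ⊤)
  let e : X ≅ Spec B := X.isoSpec
  let φ : H ⟶ B := (Scheme.ΓSpecIso H).inv ≫ (h ≫ q).appTop
  have hφ : e.inv ≫ h ≫ q = Spec.map φ := by
    rw [Iso.inv_comp_eq]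
    simp only [φ, Spec.map_comp]
    rw [show e.hom = X.toSpecΓ from Scheme.isoSpec_hom X, ← Scheme.toSpecΓ_naturality_assoc]
    rw [toSpecΓ_SpecMap_ΓSpecIso_inv, Category.comp_id]
  have hint : φ.hom.IsIntegral := by
    rw [← IsIntegralHom.SpecMap_iff, ← hφ]; infer_instance
  algebraize [φ.hom]
  let π : Spec B → Z := fun x => h (e.inv x)
  have hπs : Function.Surjective π := h.surjective.comp e.inv.homeomorph.surjective
  have hπc : IsClosedMap π := hcl.comp e.inv.homeomorph.isClosedMap
  have hπf : Continuous π := h.continuous.comp e.inv.continuous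
  -- closed points lie over the closed point
  have hmax : ∀ x : Spec B, IsClosed ({x} : Set (Spec B)) ↔
      (h ≫ q) (e.inv x) = IsLocalRing.closedPoint H := by
    intro x
    rw [← Scheme.Hom.comp_apply, hφ, isClosed_singleton_iff_Spec]
    constructor
    · intro hx
      apply PrimeSpectrum.ext
      exact IsLocalRing.eq_maximalIdeal
        (Ideal.isMaximal_comap_of_isIntegral_of_isMaximal (R := H)
          (x : PrimeSpectrum B).asIdeal)
    · intro hx
      refine Ideal.isMaximal_of_isIntegral_of_isMaximal_comap (R := H) _ ?_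
      have heq : (x : PrimeSpectrum B).asIdeal.comap φ.hom = IsLocalRing.maximalIdeal H :=
        congrArg PrimeSpectrum.asIdeal hx
      show ((x : PrimeSpectrum B).asIdeal.comap φ.hom).IsMaximal
      rw [heq]
      exact IsLocalRing.maximalIdeal.isMaximal H
  have hfin' : Set.Finite {x : Spec B | IsClosed ({x} : Set (Spec B))} :=
    (hfin.preimage e.inv.homeomorph.injective.injOn).subset fun x hx => (hmax x).mp hx
  have hsep : ∀ x : Spec B, IsClosed ({x} : Set (Spec B)) →
      ∃ C : Set (Spec B), IsClopen C ∧ x ∈ C ∧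
        ∀ y : Spec B, IsClosed ({y} : Set (Spec B)) → y ∈ C → y = x := by
    intro x hx
    obtain ⟨C, h1, h2, h3⟩ := exists_isClopen_separating (H := H) (B := B)
      (hfin'.subset fun y hy => (isClosed_singleton_iff_Spec y).mpr hy) x
      ((isClosed_singleton_iff_Spec x).mp hx)
    exact ⟨C, h1, h2, fun y hy hyC => h3 y ((isClosed_singleton_iff_Spec y).mp hy) hyC⟩
  let T := {x : Spec B // IsClosed ({x} : Set (Spec B))}
  have : Finite T := hfin'.to_subtype
  choose C hC hxC hCu using fun t : T => hsep t.1 t.2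
  -- every point specializes to a closed point
  have hclp : ∀ (s : Set (Spec B)), IsClosed s → s.Nonempty → ∃ t : T, t.1 ∈ s := by
    intro s hs hne
    obtain ⟨x, hxs, hx⟩ := hs.exists_closed_singleton hne
    exact ⟨⟨x, hx⟩, hxs⟩
  have hspec : ∀ (x : Spec B) (t : T), x ∈ C t → x ⤳ t.1 := by
    intro x t hx
    obtain ⟨t', ht'⟩ := hclp (closure {x}) isClosed_closure ⟨x, subset_closure rfl⟩
    have : t'.1 ∈ C t := closure_minimal (Set.singleton_subset_iff.mpr hx) (hC t).1 ht'
    rw [hCu t t'.1 t'.2 this] at ht'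
    exact specializes_iff_mem_closure.mpr ht'
  have hcov : ∀ x : Spec B, ∃ t : T, x ∈ C t := by
    intro x
    obtain ⟨t, ht⟩ := hclp (closure {x}) isClosed_closure ⟨x, subset_closure rfl⟩
    refine ⟨t, ?_⟩
    by_contra hx
    exact closure_minimal (Set.singleton_subset_iff.mpr hx) (hC t).2.isClosed_compl ht (hxC t)
  -- the pieces
  let K := Set.range fun t : T => π t.1
  let W : K → Set Z := fun w => π '' (⋃ t ∈ {t : T | π t.1 = w.1}, C t)
  have hWc : ∀ w, IsClosed (W w) := fun w =>
    hπc _ ((Set.toFinite _).isClosed_biUnion fun t _ => (hC t).1)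
  have hWspec : ∀ w z, z ∈ W w → z ⤳ w.1 := by
    rintro w _ ⟨x, hx, rfl⟩
    simp only [Set.mem_iUnion] at hx
    obtain ⟨t, ht, hxt⟩ := hx
    exact (ht : π t.1 = w.1) ▸ (hspec x t hxt).map hπf
  have hWdisj : Pairwise fun w w' => Disjoint (W w) (W w') := by
    intro w w' hne
    rw [Set.disjoint_left]
    rintro _ ⟨x, hx, rfl⟩ hx'
    simp only [Set.mem_iUnion] at hx
    obtain ⟨t, ht, hxt⟩ := hx
    obtain ⟨y, hy, hy'⟩ : w'.1 ∈ π '' closure {x} := by
      refine ((hπc _ isClosed_closure).closure_subset_iff.mpr ?_)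
        (specializes_iff_mem_closure.mp (hWspec w' _ hx'))
      exact Set.singleton_subset_iff.mpr ⟨x, subset_closure rfl, rfl⟩
    obtain ⟨t', ht'⟩ := hclp (closure {y}) isClosed_closure ⟨y, subset_closure rfl⟩
    have hxt' : t'.1 ∈ C t :=
      closure_minimal (Set.singleton_subset_iff.mpr
        (closure_minimal (Set.singleton_subset_iff.mpr hxt) (hC t).1 hy)) (hC t).1 ht'
    have heq : t' = t := Subtype.ext (hCu t t'.1 t'.2 hxt')
    have hwcl : IsClosed ({w'.1} : Set Z) := by
      obtain ⟨s, hs⟩ := w'.2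
      rw [← hs, ← Set.image_singleton]
      exact hπc _ s.2
    have : π t.1 ∈ ({w'.1} : Set Z) := by
      refine hwcl.closure_eq ▸ ?_
      rw [← hy', ← specializes_iff_mem_closure, ← heq]
      exact (specializes_iff_mem_closure.mpr ht').map hπf
    exact hne (Subtype.ext ((ht : π t.1 = w.1).symm.trans this))
  have hWu : ∀ z, ∃ w, z ∈ W w := by
    intro z
    obtain ⟨x, rfl⟩ := hπs z
    obtain ⟨t, ht⟩ := hcov x
    exact ⟨⟨π t.1, t, rfl⟩, x, by simp only [Set.mem_iUnion]; exact ⟨t, rfl, ht⟩, rfl⟩
  have : Finite K := (Set.finite_range _).to_subtype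
  have hWo : ∀ w, IsOpen (W w) := fun w => by
    have : (W w)ᶜ = ⋃ w' ∈ {w' | w' ≠ w}, W w' := by
      ext z
      simp only [Set.mem_compl_iff, Set.mem_iUnion, Set.mem_ofPred_eq]
      constructor
      · intro hz
        obtain ⟨w', hw'⟩ := hWu z
        exact ⟨w', fun h => hz (h ▸ hw'), hw'⟩
      · rintro ⟨w', hne, hw'⟩ hz
        exact Set.disjoint_left.mp (hWdisj hne) hw' hz
    rw [← isClosed_compl_iff, this]
    exact (Set.toFinite _).isClosed_biUnion fun w' _ => hWc w'
  let O : K → Z.Opens := fun w => ⟨W w, hWo w⟩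
  have haff : ∀ w, IsAffineOpen (O w) := by
    intro w
    obtain ⟨_, ⟨U : Z.Opens, hU, rfl⟩, hwU, -⟩ :=
      Z.isBasis_affineOpens.exists_subset_of_mem_open (Set.mem_univ w.1) isOpen_univ
    have hle : O w ≤ U := fun z hz => (hWspec w z hz).mem_open U.2 hwU
    have : IsAffine U := hU
    have hci : IsClosedImmersion (Z.homOfLE hle) := by
      refine .of_isPreimmersion _ ?_
      have : Set.range (Z.homOfLE hle) = U.ι ⁻¹' W w := by
        ext x
        constructor
        · rintro ⟨y, rfl⟩
          show ((Z.homOfLE hle) y).1 ∈ W w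
          rw [Scheme.homOfLE_apply]
          exact y.2
        · intro hx
          exact ⟨⟨x.1, hx⟩, Subtype.ext (Scheme.homOfLE_apply hle _)⟩
      rw [this]
      exact (hWc w).preimage U.ι.continuous
    exact isAffine_of_isAffineHom (Z.homOfLE hle)
  have := IsAffineOpen.iSup_of_disjoint haff fun w w' hne => by
    show Disjoint (O w) (O w')
    rw [disjoint_iff]
    ext z
    simpa [O] using fun hz => Set.disjoint_left.mp (hWdisj hne) hz
  have htop : (⨆ w, O w) = ⊤ := top_le_iff.mp fun z _ => Opens.mem_iSup.mpr (hWu z)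
  rw [htop] at this
  exact @IsAffine.of_isIso _ _ Z.topIso.inv inferInstance this

end Groth.Agent.IntImage
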